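import Cfsg.Agent.H921.RatB.Glue

/-!
# Central extensions of direct products of simple groups (helper921, S4891)

`Z` central in `T`, `K / Z` with coordinates `S i` (simple, nonabelian), `X i` the preimage of `S i`,
`E i = [X i, X i]`: `E i` is perfect, `E i` and `E j` commute, `K = Z E₁ ... E_m` (`cov`).
-/

set_option autoImplicit false
set_option linter.unusedSectionVars false

namespace Cfsg.Agent.H921.RatB

open Cfsg.Agent.H663.GmnStep
open scoped commutatorElement

universe u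

/-- nonabelian simple subgroups are perfect -/
theorem comm_self {G : Type u} [Group G] (S : Subgroup G) (hs : IsSimpleGroup S) (hn : ∃ a b : S, a * b ≠ b * a) :
    ⁅S, S⁆ = S := by
  have h1 : commutator S = ⊤ := by
    rcases (inferInstance : (commutator S).Normal).eq_bot_or_eq_top with h | h
    · exfalso
      obtain ⟨a, b, hab⟩ := hn
      have h2 : ⁅a, b⁆ ∈ commutator S := Subgroup.commutator_mem_commutator (Subgroup.mem_top a) (Subgroup.mem_top b)
      rw [h, Subgroup.mem_bot, commutatorElement_eq_one_iff_mul_comm] at h2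
      exact hab h2
    · exact h
  rw [← Subgroup.map_subtype_commutator, h1, ← MonoidHom.range_eq_map, Subgroup.range_subtype]

section
variable {T : Type u} [Group T] {Z : Subgroup T} [Z.Normal] {m : ℕ} (S : Fin m → Subgroup (T ⧸ Z))

/-- the preimage of the factor -/
def XS (i : Fin m) : Subgroup T := (S i).comap (QuotientGroup.mk' Z)

/-- the layer component -/
def ES (i : Fin m) : Subgroup T := ⁅XS S i, XS S i⁆

theorem mem_XS {i : Fin m} {x : T} : x ∈ XS S i ↔ (x : T ⧸ Z) ∈ S i := Iff.rfl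

theorem ES_le_XS (i : Fin m) : ES S i ≤ XS S i :=
  Subgroup.commutator_le.2 fun x hx y hy => by
    rw [commutatorElement_def]
    exact Subgroup.mul_mem _ (Subgroup.mul_mem _ (Subgroup.mul_mem _ hx hy) (Subgroup.inv_mem _ hx))
      (Subgroup.inv_mem _ hy)

theorem map_XS (i : Fin m) : (XS S i).map (QuotientGroup.mk' Z) = S i :=
  Subgroup.map_comap_eq_self_of_surjective (QuotientGroup.mk'_surjective Z) _

theorem Z_le_XS (i : Fin m) : Z ≤ XS S i := by
  intro z hz
  rw [mem_XS, (QuotientGroup.eq_one_iff z).2 hz]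
  exact one_mem _

/-- the components are perfect modulo `Z` -/
def Perf : Prop := ∀ i, ⁅S i, S i⁆ = S i

variable {S}

theorem map_ES (hp : Perf S) (i : Fin m) : (ES S i).map (QuotientGroup.mk' Z) = S i := by
  rw [ES, Subgroup.map_commutator, map_XS, hp]

theorem XS_eq (hp : Perf S) (i : Fin m) : XS S i = ES S i ⊔ Z := by
  have h1 : XS S i = ((ES S i).map (QuotientGroup.mk' Z)).comap (QuotientGroup.mk' Z) := by
    rw [map_ES hp]
    rfl
  rw [h1, Subgroup.comap_map_eq, QuotientGroup.ker_mk']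

theorem exists_mem (hp : Perf S) {i : Fin m} {x : T} (hx : x ∈ XS S i) : ∃ e ∈ ES S i, ∃ z ∈ Z, x = e * z := by
  rw [XS_eq hp, Subgroup.mem_sup_of_normal_right] at hx
  obtain ⟨e, he, z, hz, h⟩ := hx
  exact ⟨e, he, z, hz, h.symm⟩

/-- commutators do not see central factors -/
theorem comm_central {x y z w : T} (hz : z ∈ Subgroup.center T) (hw : w ∈ Subgroup.center T) :
    ⁅x * z, y * w⁆ = ⁅x, y⁆ := by
  have h1 : ∀ a, a * z = z * a := fun a => (Subgroup.mem_center_iff.1 hz a)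
  have h2 : ∀ a, a * w = w * a := fun a => (Subgroup.mem_center_iff.1 hw a)
  rw [commutatorElement_def, commutatorElement_def, mul_inv_rev, mul_inv_rev]
  calc x * z * (y * w) * (z⁻¹ * x⁻¹) * (w⁻¹ * y⁻¹)
      = x * (z * (y * w)) * (z⁻¹ * x⁻¹) * (w⁻¹ * y⁻¹) := by group
    _ = x * (y * w * z) * (z⁻¹ * x⁻¹) * (w⁻¹ * y⁻¹) := by rw [← h1]
    _ = x * (y * (w * x⁻¹)) * (w⁻¹ * y⁻¹) := by group
    _ = x * (y * (x⁻¹ * w)) * (w⁻¹ * y⁻¹) := by rw [← h2]
    _ = x * y * x⁻¹ * y⁻¹ := by group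

theorem ES_perf (hz : Z ≤ Subgroup.center T) (hp : Perf S) (i : Fin m) : ⁅ES S i, ES S i⁆ = ES S i := by
  apply le_antisymm
  · exact Subgroup.commutator_mono (ES_le_XS S i) (ES_le_XS S i)
  · refine Subgroup.commutator_le.2 fun x hx y hy => ?_
    obtain ⟨e, he, z, hz', rfl⟩ := exists_mem hp hx
    obtain ⟨f, hf, w, hw', rfl⟩ := exists_mem hp hy
    rw [comm_central (hz hz') (hz hw')]
    exact Subgroup.commutator_mem_commutator he hf

/-- three subgroups lemma in the case needed -/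
theorem comm_of {A : Subgroup T} {y : T} (h : ∀ x ∈ A, ∃ z ∈ Subgroup.center T, y * x * y⁻¹ = x * z) {x : T}
    (hx : x ∈ ⁅A, A⁆) : y * x * y⁻¹ = x := by
  have h1 : ⁅A, A⁆ ≤ Subgroup.centralizer {y} := by
    refine Subgroup.commutator_le.2 fun a ha b hb => ?_
    obtain ⟨z, hz, h1⟩ := h a ha
    obtain ⟨w, hw, h2⟩ := h b hb
    have h3 : y * ⁅a, b⁆ * y⁻¹ = ⁅a, b⁆ := by
      rw [conjugate_commutatorElement, h1, h2, comm_central hz hw]
    rw [Subgroup.mem_centralizer_singleton_iff]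
    calc ⁅a, b⁆ * y = y * ⁅a, b⁆ * y⁻¹ * y := by rw [h3]
      _ = y * ⁅a, b⁆ := by group
  have h2 := Subgroup.mem_centralizer_singleton_iff.1 (h1 hx)
  rw [← h2]
  group

theorem conj_ES {g : T} {i j : Fin m} (h : ∀ x ∈ XS S i, g * x * g⁻¹ ∈ XS S j) :
    ∀ x ∈ ES S i, g * x * g⁻¹ ∈ ES S j := by
  intro x hx
  have h1 : (ES S i).map (MulAut.conj g).toMonoidHom ≤ ES S j := by
    rw [ES, Subgroup.map_commutator]
    have h2 : (XS S i).map (MulAut.conj g).toMonoidHom ≤ XS S j := by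
      rintro _ ⟨x, hx, rfl⟩
      exact h x hx
    exact Subgroup.commutator_mono h2 h2
  exact h1 ⟨x, hx, rfl⟩

theorem conj_XS {g : T} {i j : Fin m} (h : S j = (S i).map (MulAut.conj (g : T ⧸ Z)).toMonoidHom) :
    ∀ x ∈ XS S i, g * x * g⁻¹ ∈ XS S j := by
  intro x hx
  rw [mem_XS, h]
  exact ⟨x, hx, rfl⟩

theorem conj_ES_iff {g : T} {i j : Fin m} (h : S j = (S i).map (MulAut.conj (g : T ⧸ Z)).toMonoidHom) :
    ∀ x ∈ ES S j, g⁻¹ * x * g ∈ ES S i := by
  have h1 : S i = (S j).map (MulAut.conj ((g⁻¹ : T) : T ⧸ Z)).toMonoidHom := by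
    rw [h, Subgroup.map_map]
    have : (MulAut.conj ((g⁻¹ : T) : T ⧸ Z)).toMonoidHom.comp (MulAut.conj (g : T ⧸ Z)).toMonoidHom =
        MonoidHom.id _ := by
      ext x
      simp
    rw [this, Subgroup.map_id]
  intro x hx
  have h2 := conj_ES (conj_XS h1) x hx
  rwa [inv_inv] at h2

/-- the projection of the component to the simple factor -/
def prj (S : Fin m → Subgroup (T ⧸ Z)) (i : Fin m) : ES S i →* S i :=
  ((QuotientGroup.mk' Z).comp (ES S i).subtype).codRestrict (S i) fun x => ES_le_XS S i x.2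

theorem prj_coe (i : Fin m) (x : ES S i) : ((prj S i x : S i) : T ⧸ Z) = ((x : T) : T ⧸ Z) := rfl

theorem prj_surj (hp : Perf S) (i : Fin m) : Function.Surjective (prj S i) := by
  intro s
  have h1 : (s : T ⧸ Z) ∈ (ES S i).map (QuotientGroup.mk' Z) := by
    rw [map_ES hp]
    exact s.2
  obtain ⟨x, hx, hxs⟩ := h1
  exact ⟨⟨x, hx⟩, Subtype.ext hxs⟩

theorem prj_ker (i : Fin m) : (prj S i).ker = Z.subgroupOf (ES S i) := by
  ext x
  rw [MonoidHom.mem_ker, Subgroup.mem_subgroupOf, ← QuotientGroup.eq_one_iff]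
  exact Subtype.ext_iff

end

section
variable {T : Type u} [Group T] [Finite T] {Z K : Subgroup T} [Z.Normal] [K.Normal]
  [hN : (K.map (QuotientGroup.mk' Z)).Normal] {m : ℕ} {S : Fin m → Subgroup (T ⧸ Z)}
  {e : (K.map (QuotientGroup.mk' Z)) ≃* ∀ i, S i}

omit [Finite T] in
/-- the factors commute -/
theorem comm_S (hc : IsCoord e) : Comm' S := by
  intro i j hij x y hx hy
  have h1 := (hc.comm (e.symm (Pi.mulSingle i ⟨x, hx⟩)) j).1 (by
    rw [e.apply_symm_apply, Pi.mulSingle_eq_of_ne (Ne.symm hij)]) y hy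
  rwa [hc.single] at h1

omit [Finite T] in
theorem e_symm_eq (hc : IsCoord e) (x : ∀ i, S i) :
    ((e.symm x : K.map (QuotientGroup.mk' Z)) : T ⧸ Z) = Subgroup.noncommPiCoprod (comm_S hc) x := by
  have key : (K.map (QuotientGroup.mk' Z)).subtype.comp e.symm.toMonoidHom =
      Subgroup.noncommPiCoprod (comm_S hc) := by
    refine MonoidHom.pi_ext fun i x => ?_
    rw [Subgroup.noncommPiCoprod_mulSingle]
    exact hc.single i x
  exact DFunLike.congr_fun key x

theorem cov (hz : Z ≤ Subgroup.center T) (hZK : Z ≤ K) (hc : IsCoord e) (hp : Perf S) : Cov Z K (ES S) := by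
  classical
  have hcomm : Comm' (ES S) := by
    intro i j hij x y hx hy
    have h1 : y * x * y⁻¹ = x := by
      refine comm_of (A := XS S i) (fun x hx => ⟨x⁻¹ * (y * x * y⁻¹), hz ?_, by group⟩) hx
      have h2 : Commute (x : T ⧸ Z) (y : T ⧸ Z) := comm_S hc hij _ _ hx (ES_le_XS S j hy)
      rw [← QuotientGroup.eq_one_iff]
      show (x : T ⧸ Z)⁻¹ * ((y : T ⧸ Z) * (x : T ⧸ Z) * (y : T ⧸ Z)⁻¹) = 1
      rw [← h2.eq]
      group
    show x * y = y * x
    calc x * y = y * x * y⁻¹ * y := by rw [h1]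
      _ = y * x := by group
  refine ⟨hz, hZK, fun i x hx => ?_, hcomm, ?_, ?_, fun g => ?_⟩
  · have h1 : (x : T ⧸ Z) ∈ K.map (QuotientGroup.mk' Z) := hc.le i (ES_le_XS S i hx)
    obtain ⟨k, hk, hkx⟩ := h1
    have h2 : k⁻¹ * x ∈ Z := QuotientGroup.eq.1 hkx
    have h3 : x = k * (k⁻¹ * x) := by group
    rw [h3]
    exact K.mul_mem hk (hZK h2)
  · intro k hk
    have h1 : (k : T ⧸ Z) ∈ ⨆ i, S i := by
      have h2 := e_symm_eq hc (e ⟨k, k, hk, rfl⟩)
      rw [e.symm_apply_apply] at h2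
      rw [← Subgroup.noncommPiCoprod_range (hcomm := comm_S hc)]
      exact ⟨_, h2.symm⟩
    have h2 : (⨆ i, S i) = (⨆ i, ES S i).map (QuotientGroup.mk' Z) := by
      rw [Subgroup.map_iSup]
      exact iSup_congr fun i => (map_ES hp i).symm
    have h3 : k ∈ ((⨆ i, ES S i).map (QuotientGroup.mk' Z)).comap (QuotientGroup.mk' Z) := by
      rw [← h2]
      exact h1
    rw [Subgroup.comap_map_eq, QuotientGroup.ker_mk', sup_comm] at h3
    exact h3
  · intro x hx i
    have key : (QuotientGroup.mk' Z).comp (Subgroup.noncommPiCoprod hcomm) =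
        (Subgroup.noncommPiCoprod (comm_S hc)).comp
          (MonoidHom.pi fun i => (prj S i).comp (Pi.evalMonoidHom (fun i => ES S i) i)) := by
      refine MonoidHom.pi_ext fun i x => ?_
      rw [MonoidHom.comp_apply, MonoidHom.comp_apply, Subgroup.noncommPiCoprod_mulSingle]
      have h1 : (MonoidHom.pi fun i => (prj S i).comp (Pi.evalMonoidHom (fun i => ES S i) i))
          (Pi.mulSingle i x) = Pi.mulSingle i (prj S i x) := by
        funext j
        show prj S j ((Pi.mulSingle i x : ∀ i, ES S i) j) = _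
        by_cases hj : j = i
        · subst hj
          rw [Pi.mulSingle_eq_same, Pi.mulSingle_eq_same]
        · rw [Pi.mulSingle_eq_of_ne hj, Pi.mulSingle_eq_of_ne hj, map_one]
      rw [h1, Subgroup.noncommPiCoprod_mulSingle]
      rfl
    have h1 := DFunLike.congr_fun key x
    rw [MonoidHom.comp_apply, MonoidHom.comp_apply, ← e_symm_eq hc] at h1
    have h2 : (QuotientGroup.mk' Z) (Subgroup.noncommPiCoprod hcomm x) = 1 := (QuotientGroup.eq_one_iff _).2 hx
    rw [h2] at h1
    have h3 : e.symm ((MonoidHom.pi fun i => (prj S i).comp (Pi.evalMonoidHom (fun i => ES S i) i)) x) = 1 :=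
      Subtype.ext h1.symm
    rw [map_eq_one_iff e.symm e.symm.injective] at h3
    have h4 : prj S i (x i) = 1 := congrFun h3 i
    exact (QuotientGroup.eq_one_iff _).1 (congrArg Subtype.val h4)
  · refine ⟨Equiv.ofBijective (hc.sg (g : T ⧸ Z)) (hc.sg_bij _), fun i => ?_⟩
    exact conj_ES (conj_XS (hc.T_sg (g : T ⧸ Z) i))

end

end Cfsg.Agent.H921.RatB
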