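import Cfsg.Agent.H921.RatB.Glue
import Cfsg.Agent.H846.RatB.Layer

/-!
# Transport of a character to the conjugate components; `p`-rationality of products (helper921, S4891)
-/

set_option autoImplicit false
set_option linter.unusedSectionVars false

namespace Cfsg.Agent.H921.RatB

open Cfsg Cfsg.Agent.Characters.Core Cfsg.Agent.H846.RatB

universe u

section
variable {T : Type u} [Group T] [Finite T] {Z : Subgroup T} {ι : Type} {E : ι → Subgroup T}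

/-- Transport of an invariant character of `E i₀` to all components. -/
theorem exists_family (hz : Z ≤ Subgroup.center T) (i₀ : ι) (g : ι → T)
    (hg1 : ∀ i, ∀ x ∈ E i₀, g i * x * (g i)⁻¹ ∈ E i) (hg2 : ∀ i, ∀ x ∈ E i, (g i)⁻¹ * x * g i ∈ E i₀)
    (ν : Z →* ℂˣ) (ψ₀ : E i₀ → ℂ) (h0 : IsIrrCharacter (E i₀) ψ₀)
    (h1 : ∀ (x : E i₀) (z : Z) (hz : (z : T) ∈ E i₀), ψ₀ (x * ⟨z, hz⟩) = ψ₀ x * ν z)
    (h2 : ∀ (h : T) (hh : ∀ x ∈ E i₀, h * x * h⁻¹ ∈ E i₀) (x : E i₀), ψ₀ ⟨h * x * h⁻¹, hh x x.2⟩ = ψ₀ x) :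
    ∃ ψ : ∀ i, E i → ℂ, (∀ i, IsIrrCharacter (E i) (ψ i)) ∧
      (∀ i (x : E i) (z : Z) (hz : (z : T) ∈ E i), ψ i (x * ⟨z, hz⟩) = ψ i x * ν z) ∧
      (∀ (g : T) (i j : ι) (hg : ∀ x ∈ E i, g * x * g⁻¹ ∈ E j) (x : E i),
        ψ j ⟨g * x * g⁻¹, hg x x.2⟩ = ψ i x) ∧
      (∀ i, charDegree (ψ i) = charDegree ψ₀) ∧ ∀ i x, ∃ y, ψ i x = ψ₀ y := by
  have hg3 : ∀ i, ∀ x ∈ E i, (g i)⁻¹ * x * (g i)⁻¹⁻¹ ∈ E i₀ := by
    intro i x hx
    rw [inv_inv]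
    exact hg2 i x hx
  have hF : ∀ i (x : E i), ((cj E (g i)⁻¹ i i₀ (hg3 i) x : E i₀) : T) = (g i)⁻¹ * x * (g i)⁻¹⁻¹ := fun i x => rfl
  refine ⟨fun i x => ψ₀ (cj E (g i)⁻¹ i i₀ (hg3 i) x), fun i => ?_, fun i x z hz' => ?_, fun a i j ha x => ?_,
    fun i => ?_, fun i x => ⟨_, rfl⟩⟩
  · refine isIrr_comp (cj E (g i)⁻¹ i i₀ (hg3 i)) (fun y => ⟨⟨g i * y * (g i)⁻¹, hg1 i y y.2⟩, ?_⟩) h0
    apply Subtype.ext
    rw [hF]
    group
  · have e1 : (g i)⁻¹ * (z : T) * (g i)⁻¹⁻¹ = z := by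
      rw [Subgroup.mem_center_iff.1 (hz z.2)]
      group
    have e2 : (z : T) ∈ E i₀ := by
      rw [← e1]
      exact hg3 i z hz'
    have e3 : cj E (g i)⁻¹ i i₀ (hg3 i) (x * ⟨z, hz'⟩) = cj E (g i)⁻¹ i i₀ (hg3 i) x * ⟨z, e2⟩ := by
      rw [map_mul]
      congr 1
      exact Subtype.ext e1
    show ψ₀ _ = ψ₀ _ * _
    rw [e3, h1]
  · show ψ₀ _ = ψ₀ _
    set y : E i₀ := cj E (g i)⁻¹ i i₀ (hg3 i) x with hy
    have e1 : (x : T) = g i * y * (g i)⁻¹ := by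
      rw [hy, hF]
      group
    have e2 : ∀ w ∈ E i₀, ((g j)⁻¹ * a * g i) * w * ((g j)⁻¹ * a * g i)⁻¹ ∈ E i₀ := by
      intro w hw
      have := hg2 j _ (ha _ (hg1 i w hw))
      have e3 : (g j)⁻¹ * a * g i * w * ((g j)⁻¹ * a * g i)⁻¹ =
          (g j)⁻¹ * (a * (g i * w * (g i)⁻¹) * a⁻¹) * g j := by group
      rw [e3]
      exact this
    rw [← h2 _ e2 y]
    congr 1
    apply Subtype.ext
    rw [hF]
    show (g j)⁻¹ * (a * x * a⁻¹) * (g j)⁻¹⁻¹ = (g j)⁻¹ * a * g i * y * ((g j)⁻¹ * a * g i)⁻¹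
    rw [e1]
    group
  · rw [Blocks.Basic.charDegree_def, Blocks.Basic.charDegree_def]
    simp only [map_one]

end

/-- roots of unity in the cyclotomic field -/
theorem root_mem {n : ℕ} (hn : n ≠ 0) {w : ℂ} (hw : w ^ n = 1) :
    w ∈ IntermediateField.adjoin ℚ ({Complex.exp (2 * Real.pi * Complex.I / n)} : Set ℂ) := by
  have : NeZero n := ⟨hn⟩
  obtain ⟨i, -, rfl⟩ := (Complex.isPrimitiveRoot_exp n hn).eq_pow_of_pow_eq_one hw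
  exact pow_mem (IntermediateField.mem_adjoin_simple_self ℚ _) i

theorem adjoin_le {n m : ℕ} (hm : m ≠ 0) (h : n ∣ m) :
    IntermediateField.adjoin ℚ ({Complex.exp (2 * Real.pi * Complex.I / n)} : Set ℂ) ≤
      IntermediateField.adjoin ℚ ({Complex.exp (2 * Real.pi * Complex.I / m)} : Set ℂ) := by
  rw [IntermediateField.adjoin_simple_le_iff]
  apply root_mem hm
  have hn : n ≠ 0 := fun h0 => hm (by rw [h0, zero_dvd_iff] at h; exact h)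
  obtain ⟨k, rfl⟩ := h
  rw [pow_mul, (Complex.isPrimitiveRoot_exp n hn).pow_eq_one, one_pow]

end Cfsg.Agent.H921.RatB
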