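import Cfsg.Agent.H921.RatB.Fac
import Cfsg.Agent.H921.RatB.Struct
import Cfsg.Agent.H921.RatB.Trans

/-!
# The layer task of TEAM B0-RAT (S4891), from the table of simple groups (helper921)

`layer_of_tab : Tab p → SLTask → LayerTask p`.
-/

set_option autoImplicit false

namespace Cfsg.Agent.H921.RatB

open Cfsg Cfsg.Agent.Characters.Core Cfsg.Agent.H846.RatB Cfsg.Agent.H663.GmnStep

universe u

section
variable {T : Type u} [Group T] {Z K : Subgroup T} [Z.Normal]

theorem min_quot (hmin : ∀ M : Subgroup T, M.Normal → Z ≤ M → M ≤ K → M = Z ∨ M = K) (hZK : Z ≤ K) :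
    ∀ M : Subgroup (T ⧸ Z), M.Normal → M ≤ K.map (QuotientGroup.mk' Z) →
      M = ⊥ ∨ M = K.map (QuotientGroup.mk' Z) := by
  intro M hM hle
  have h1 : (M.comap (QuotientGroup.mk' Z)).map (QuotientGroup.mk' Z) = M :=
    Subgroup.map_comap_eq_self_of_surjective (QuotientGroup.mk'_surjective Z) M
  have h2 : Z ≤ M.comap (QuotientGroup.mk' Z) := by
    intro z hz
    rw [Subgroup.mem_comap]
    have : (QuotientGroup.mk' Z) z = 1 := (QuotientGroup.eq_one_iff z).2 hz
    rw [this]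
    exact one_mem _
  have h3 : M.comap (QuotientGroup.mk' Z) ≤ K := by
    have h4 := Subgroup.comap_mono (f := QuotientGroup.mk' Z) hle
    rwa [Subgroup.comap_map_eq, QuotientGroup.ker_mk', sup_eq_left.2 hZK] at h4
  rcases hmin _ (hM.comap _) h2 h3 with h | h
  · left
    rw [← h1, h, Subgroup.map_eq_bot_iff, QuotientGroup.ker_mk']
  · right
    rw [← h1, h]

theorem self_quot {p : ℕ} [Fact p.Prime] [Finite T] (hSN : SN p Z) (P : Sylow p T) :
    Subgroup.normalizer (((P.mapSurjective (QuotientGroup.mk'_surjective Z) : Sylow p (T ⧸ Z)) :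
      Subgroup (T ⧸ Z)) : Set (T ⧸ Z)) = (P.mapSurjective (QuotientGroup.mk'_surjective Z) : Sylow p (T ⧸ Z)) := by
  refine le_antisymm (fun y hy => ?_) Subgroup.le_normalizer
  obtain ⟨t, rfl⟩ := QuotientGroup.mk'_surjective Z y
  rw [Subgroup.mem_normalizer_iff] at hy
  have hmem : ∀ s : T, (QuotientGroup.mk' Z) s ∈ (P : Subgroup T).map (QuotientGroup.mk' Z) ↔
      s ∈ (P : Subgroup T) ⊔ Z := by
    intro s
    have := Subgroup.comap_map_eq (QuotientGroup.mk' Z) (P : Subgroup T)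
    rw [QuotientGroup.ker_mk'] at this
    rw [← this, Subgroup.mem_comap]
  rw [Sylow.coe_mapSurjective] at hy ⊢
  rw [hmem]
  refine hSN P t fun x hx => ?_
  have h1 := (hy (QuotientGroup.mk' Z x)).1 ⟨x, hx, rfl⟩
  rw [← map_inv, ← map_mul, ← map_mul] at h1
  exact (hmem _).1 h1

end

theorem layer_of_tab {p : ℕ} [hp : Fact p.Prime] (hT : Tab.{u} p) (hSL : SLTask.{u}) : LayerTask.{u} p := by
  intro T _ _ Z K hK hZK hZc hpZ hmin hna hdvd hSN ν P
  classical
  have hZn : Z.Normal := ⟨fun z hz g => by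
    rw [Subgroup.mem_center_iff.1 (hZc hz) g, mul_assoc, mul_inv_cancel, mul_one]
    exact hz⟩
  have hN : (K.map (QuotientGroup.mk' Z)).Normal := hK.map _ (QuotientGroup.mk'_surjective Z)
  have hnaN : ¬ ∀ x ∈ K.map (QuotientGroup.mk' Z), ∀ y ∈ K.map (QuotientGroup.mk' Z), Commute x y := by
    intro h
    obtain ⟨x, hx, y, hy, hxy⟩ := hna
    apply hxy
    have h1 : Commute (x : T ⧸ Z) (y : T ⧸ Z) := h _ ⟨x, hx, rfl⟩ _ ⟨y, hy, rfl⟩
    rw [← QuotientGroup.eq_one_iff]
    show (x : T ⧸ Z) * (y : T ⧸ Z) * (x : T ⧸ Z)⁻¹ * (y : T ⧸ Z)⁻¹ = 1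
    rw [h1.eq]
    group
  have hdvdN : p ∣ Nat.card (K.map (QuotientGroup.mk' Z)) := by
    rw [← Subgroup.relIndex_ker, QuotientGroup.ker_mk']
    exact hdvd
  have hself := self_quot hSN P
  obtain ⟨m, S, e, hm, hsimple, hnonab, hTinj, hTle, hTnorm, hperm, htrans, hsingle, hcomm⟩ :=
    PermutationGroups.OnanScott.exists_coordinates (K.map (QuotientGroup.mk' Z)) (min_quot hmin hZK) hnaN
  have hc : IsCoord e := ⟨hTinj, hTle, hTnorm, hperm, hsingle, hcomm⟩
  obtain ⟨hp3, F, iF, iFin, hF3, h4, hcard, hε⟩ := factor_psl hT (T ⧸ Z) _ (K.map (QuotientGroup.mk' Z))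
    (selfNorm_of _ hself) hm hsimple hnonab hc htrans hdvdN
  subst hp3
  have hpf : Perf S := fun i => comm_self _ (hsimple i) (hnonab i)
  have hcov := cov hZc hZK hc hpf
  let i₀ : Fin m := ⟨0, hm⟩
  obtain ⟨ε⟩ := hε i₀
  let j : Z.subgroupOf (ES S i₀) →* Z :=
    ((ES S i₀).subtype.comp (Z.subgroupOf (ES S i₀)).subtype).codRestrict Z fun x => x.2
  have hj : Function.Injective j := by
    intro x y hxy
    apply Subtype.ext
    apply Subtype.ext
    exact congrArg (fun z : Z => (z : T)) hxy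
  obtain ⟨ψ₀, a1, a2, a3, ⟨n, hn, a4⟩, a5⟩ := hSL (ES S i₀) (Z.subgroupOf (ES S i₀))
    (fun z hz => Subgroup.mem_center_iff.2 fun x => Subtype.ext (Subgroup.mem_center_iff.1 (hZc hz) x))
    (fun h => hpZ (h.trans (Nat.card_range_of_injective hj ▸ Subgroup.card_subgroup_dvd_card j.range)))
    (by
      have h1 := ES_perf hZc hpf i₀
      rw [← Subgroup.map_subtype_commutator] at h1
      rw [eq_top_iff]
      intro x _
      have h2 : (x : T) ∈ (commutator (ES S i₀)).map (ES S i₀).subtype := by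
        rw [h1]
        exact x.2
      obtain ⟨y, hy, hyx⟩ := h2
      have h3 : y = x := Subtype.ext hyx
      rwa [h3] at hy)
    F h4 hcard
    ⟨ε.toMonoidHom.comp (prj S i₀), ε.surjective.comp (prj_surj hpf i₀), by
      rw [← prj_ker]
      ext x
      rw [MonoidHom.mem_ker, MonoidHom.mem_ker]
      exact map_eq_one_iff ε ε.injective⟩ (ν.comp j)
  choose g' hg' using htrans i₀
  choose g hg using fun i => QuotientGroup.mk'_surjective Z (g' i)
  have hgS : ∀ i, S i = (S i₀).map (MulAut.conj ((g i : T) : T ⧸ Z)).toMonoidHom := by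
    intro i
    have : ((g i : T) : T ⧸ Z) = g' i := hg i
    rw [this]
    exact hg' i
  obtain ⟨ψ, b1, b2, b3, b4, b5⟩ := exists_family (E := ES S) hZc i₀ g
    (fun i => conj_ES (conj_XS (hgS i))) (fun i => conj_ES_iff (hgS i)) ν ψ₀ a1
    (fun x z hz => a2 ⟨⟨z, hz⟩, z.2⟩ x)
    (fun h hh x => by
      have hinj : Function.Injective (cj (ES S) h i₀ i₀ hh) := by
        intro x y hxy
        have h1 : h * (x : T) * h⁻¹ = h * y * h⁻¹ := congrArg (fun z : ES S i₀ => (z : T)) hxy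
        exact Subtype.ext (by simpa using h1)
      let α : MulAut (ES S i₀) := MulEquiv.ofBijective (cj (ES S) h i₀ i₀ hh)
        (Finite.injective_iff_bijective.1 hinj)
      have hα : ∀ x : ES S i₀, ((α x : ES S i₀) : T) = h * x * h⁻¹ := fun x => rfl
      have hαz : ∀ z : ES S i₀, (z : T) ∈ Z → α z = z := by
        intro z hz
        apply Subtype.ext
        rw [hα, Subgroup.mem_center_iff.1 (hZc hz) h]
        group
      exact a5 α (fun z z' hzz' => by
        rw [hαz z z.2] at hzz'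
        rw [Subtype.ext hzz']) (fun z hz => by
        rw [hαz z hz]
        exact hz) x)
  obtain ⟨Ψ, c1, c2, c3, c4, c5⟩ := glue hcov ν ψ b1 b2 b3
  refine ⟨Ψ, c1, c2, ?_, ?_, fun x _ k => c5 x k⟩
  · rw [c3, Nat.prime_three.prime.dvd_finsetProd_iff]
    rintro ⟨i, -, hi⟩
    rw [b4] at hi
    exact a3 hi
  · have hn0 : n ≠ 0 := fun h => hn (h ▸ dvd_zero 3)
    have hZ0 : Nat.card Z ≠ 0 := Nat.card_pos.ne'
    refine ⟨Nat.card Z * n, fun h => ?_, fun k => ?_⟩
    · rcases (Nat.prime_three.dvd_mul).1 h with h | h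
      · exact hpZ h
      · exact hn h
    · obtain ⟨z, e', he'⟩ := c4 k
      rw [he']
      refine mul_mem ?_ (prod_mem fun i _ => ?_)
      · refine adjoin_le (mul_ne_zero hZ0 hn0) (dvd_mul_right _ _) (root_mem hZ0 ?_)
        rw [← Units.val_pow_eq_pow_val, ← map_pow, pow_card_eq_one', map_one, Units.val_one]
      · obtain ⟨y, hy⟩ := b5 i (e' i)
        rw [hy]
        exact adjoin_le (mul_ne_zero hZ0 hn0) (dvd_mul_left _ _) (a4 y)

end Cfsg.Agent.H921.RatB
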