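import Cfsg.Agent.H663.GmnMain

/-!
# Nonabelian minimal normal subgroups of groups with self-normalizing Sylow subgroups (helper921, S4891)

`factor_psl` : the factors are `PSL₂(F)`, `F` of characteristic `3`, `#F % 4 = 3` (the first part of the proof of
`H663.GmnStep.sec_of_tab`).
-/

set_option autoImplicit false
set_option linter.style.haveILetI false

namespace Cfsg.Agent.H921.RatB

open Cfsg Cfsg.Agent.H663.GmnStep
open Cfsg.Agent.H712 (GmnMin.Hyp GmnMin.indT GmnMin.mem_indT GmnMin.spec)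

universe u

variable {p : ℕ} [hp : Fact p.Prime]

theorem factor_psl (hT : Tab.{u} p) (G : Type u) [Group G] [Finite G] (R N : Subgroup G) [hN : N.Normal]
    (hj : SelfNorm p R.subtype) {m : ℕ} {T : Fin m → Subgroup G} {e : N ≃* ∀ i, T i} (hm : 0 < m)
    (hsimple : ∀ i, IsSimpleGroup (T i)) (hnonab : ∀ i, ∃ a b : T i, a * b ≠ b * a) (hc : IsCoord e)
    (htrans : ∀ i j, ∃ g : G, T j = (T i).map (MulAut.conj g).toMonoidHom) (hdvd : p ∣ Nat.card N) :
    p = 3 ∧ ∃ (F : Type) (_ : Field F) (_ : Fintype F), CharP F 3 ∧ Fintype.card F % 4 = 3 ∧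
      3 < Fintype.card F ∧ ∀ i, Nonempty (T i ≃* Matrix.ProjectiveSpecialLinearGroup (Fin 2) F) := by
  classical
  have hRr : R.subtype.range = R := R.range_subtype
  have hRp : IsPGroup p R := by
    have := hj.pgroup
    rwa [hRr] at this
  have hRi : ¬ p ∣ R.index := by
    have := hj.index
    rwa [hRr] at this
  have hself : Subgroup.normalizer ((R : Subgroup G) : Set G) = R := by
    have := hj.self
    rwa [hRr] at this
  let P : Sylow p G := hRp.toSylow hRi
  have hyp : ∀ i, H712.GmnMin.Hyp N (T i) := fun i =>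
    ⟨hN, hc.le i, hc.norm i, hsimple i, fun h => by
      obtain ⟨a, b, hab⟩ := hnonab i
      exact hab (h a b)⟩
  have hspec := fun i => H712.GmnMin.spec P (hyp i) hself (H712.GmnMin.indT P (T i))
    (fun a => H712.GmnMin.mem_indT P)
  have hgood : ∀ i, GoodA p (jQ R.subtype (T i)) (H712.GmnMin.indT P (T i)) := fun i =>
    ⟨(hspec i).1, fun x => (hspec i).2.1 _ x.1.2, (hspec i).2.2.2⟩
  -- the factors are isomorphic
  have hiso : ∀ i j, Nonempty (T i ≃* T j) := by
    intro i j
    obtain ⟨g, hg⟩ := htrans i j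
    exact ⟨conjIso g hg⟩
  have hdvdT : ∀ i, p ∣ Nat.card (T i) := by
    intro i
    rw [Nat.card_congr e.toEquiv, Nat.card_pi] at hdvd
    obtain ⟨j, -, hj⟩ := (hp.out.prime.dvd_finsetProd_iff _).1 hdvd
    obtain ⟨ε⟩ := hiso i j
    rwa [Nat.card_congr ε.toEquiv]
  let i₀ : Fin m := ⟨0, hm⟩
  rcases hT (T i₀) (hsimple i₀) (hyp i₀).nonab (hdvdT i₀) with hrow | ⟨hp3, F, iF, iFin, hF3, hcard, ⟨e₀⟩⟩
  · -- no such configuration
    exfalso
    obtain ⟨s1, s2, ⟨Q, hQ⟩, s4⟩ := hspec i₀
    obtain ⟨y, hy1, hy2, t, ht, hne⟩ := hrow _ s1 Q (fun x hx => s2 x ((hQ x).1 hx))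
    have := s4 y hy1 hy2
    apply hne
    rw [this, one_mul, inv_one, mul_one]
  · subst hp3
    have hε : ∀ i, Nonempty (T i ≃* Matrix.ProjectiveSpecialLinearGroup (Fin 2) F) := by
      intro i
      obtain ⟨ε⟩ := hiso i i₀
      exact ⟨ε.trans e₀⟩
    have hZ : Subgroup.center (Matrix.ProjectiveSpecialLinearGroup (Fin 2) F) = ⊥ := by
      rw [Subgroup.eq_bot_iff_forall]
      intro z hz
      have h1 : e₀.symm z ∈ Subgroup.center (T i₀) := by
        rw [Subgroup.mem_center_iff] at hz ⊢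
        intro s
        apply e₀.injective
        rw [map_mul, map_mul, e₀.apply_symm_apply]
        exact hz _
      rw [(hyp i₀).center_eq, Subgroup.mem_bot] at h1
      rw [← e₀.apply_symm_apply z, h1, map_one]
    have h1 := (H663.GmnPsl.frob_of_good e₀ hZ (syl_q hc hRp hRi i₀) (hgood i₀)).1
    have hodd : Fintype.card F % 4 = 3 := by
      by_contra h4
      exact h1 (FiniteField.isSquare_neg_one_iff.2 h4)
    exact ⟨rfl, F, iF, iFin, hF3, hodd, hcard, hε⟩

end Cfsg.Agent.H921.RatB
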