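import Cfsg.Agent.H663.GmnMain
import Cfsg.Agent.H793.PC.Pi
import Cfsg.Agent.S0188
import Cfsg.Agent.Blocks.Deflate

/-!
# Characters of central products (helper921, S4891)

`exists_descent` : descent of an irreducible character along a surjection.
`glue` : `K = Z * E₁ * ... * E_m` with `Z` central and commuting `E_i`; irreducible characters `ψ i` of
`E i` over `ν` are glued to an irreducible character of `K`, invariant under the elements which permute
the pairs `(E i, ψ i)`.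
-/

set_option autoImplicit false
set_option linter.style.haveILetI false
set_option linter.unusedSectionVars false

namespace Cfsg.Agent.H921.RatB

open Cfsg Cfsg.Agent.Characters.Core Cfsg.Agent.H672

universe u v

/-- Descent of an irreducible character along a surjection. -/
theorem exists_descent {H : Type u} {K : Type v} [Group H] [Group K] [Finite H] (f : H →* K)
    (hf : Function.Surjective f) {χ : H → ℂ} (hχ : IsIrrCharacter H χ)
    (hker : ∀ n ∈ f.ker, χ n = χ 1) : ∃ ψ : K → ℂ, IsIrrCharacter K ψ ∧ ∀ h, ψ (f h) = χ h := by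
  classical
  letI := Fintype.ofFinite f.ker
  obtain ⟨χ', hχ'⟩ := Blocks.Deflate.exists_deflation f.ker χ hχ (by
    rw [Finset.sum_congr rfl (fun (n : f.ker) _ => hker n n.2), Finset.sum_const, nsmul_eq_mul]
    refine mul_ne_zero ?_ (isIrr_apply_one_ne_zero hχ)
    rw [Finset.card_univ]
    exact Nat.cast_ne_zero.2 Fintype.card_ne_zero)
  let e := QuotientGroup.quotientKerEquivOfSurjective f hf
  refine ⟨(χ' : H ⧸ f.ker → ℂ) ∘ e.symm, isIrr_comp e.symm.toMonoidHom e.symm.surjective χ'.2, fun h => ?_⟩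
  have h1 : e.symm (f h) = (h : H ⧸ f.ker) := by
    rw [MulEquiv.symm_apply_eq]
    rfl
  rw [Function.comp_apply, h1, hχ']
  rfl

section
variable {T : Type u} [Group T] {ι : Type} [Fintype ι] [DecidableEq ι]

/-- the hypothesis on the factors -/
abbrev Comm' (E : ι → Subgroup T) : Prop :=
  Pairwise fun i j : ι => ∀ x y : T, x ∈ E i → y ∈ E j → Commute x y

/-- `c e` is multiplicative in `Z`: value of `ν` on a product of elements of `Z`. -/
theorem nu_pi {Z : Subgroup T} (hZ : Z ≤ Subgroup.center T) {E : ι → Subgroup T} (hcomm : Comm' E)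
    (ν : Z →* ℂˣ) (e : ∀ i, E i) (he : ∀ i, (e i : T) ∈ Z) (hc : Subgroup.noncommPiCoprod hcomm e ∈ Z) :
    ν ⟨Subgroup.noncommPiCoprod hcomm e, hc⟩ = ∏ i, ν ⟨e i, he i⟩ := by
  have hcz : ∀ a b : Z, Commute a b := by
    intro a b
    apply Subtype.ext
    exact (Subgroup.mem_center_iff.1 (hZ a.2) b).symm
  let f : ι → Z := fun i => ⟨e i, he i⟩
  have hp : (↑(Finset.univ : Finset ι) : Set ι).Pairwise (Function.onFun Commute f) :=
    fun a _ b _ _ => hcz (f a) (f b)
  have h1 : (⟨Subgroup.noncommPiCoprod hcomm e, hc⟩ : Z) = Finset.univ.noncommProd f hp := by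
    apply Subtype.ext
    exact (Finset.map_noncommProd Finset.univ f hp Z.subtype).symm
  rw [h1, Finset.map_noncommProd Finset.univ f hp ν, Finset.noncommProd_eq_prod]

/-- conjugation of the factor `E i` to the factor `E j` -/
def cj (E : ι → Subgroup T) (g : T) (i j : ι) (h : ∀ x ∈ E i, g * x * g⁻¹ ∈ E j) : E i →* E j :=
  ((MulAut.conj g).toMonoidHom.comp (E i).subtype).codRestrict (E j) (fun x => h x x.2)

/-- permutation of the coordinates by conjugation -/
def tw (E : ι → Subgroup T) (g : T) (σ : Equiv.Perm ι) (h : ∀ i, ∀ x ∈ E i, g * x * g⁻¹ ∈ E (σ i)) :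
    (∀ i, E i) →* (∀ i, E i) :=
  MonoidHom.pi fun j => (cj E g (σ.symm j) j (fun x hx => by
    have := h _ x hx
    rwa [Equiv.apply_symm_apply] at this)).comp (Pi.evalMonoidHom (fun i => E i) (σ.symm j))

theorem tw_apply (E : ι → Subgroup T) (g : T) (σ : Equiv.Perm ι)
    (h : ∀ i, ∀ x ∈ E i, g * x * g⁻¹ ∈ E (σ i)) (e : ∀ i, E i) (j : ι) :
    ((tw E g σ h e j : E j) : T) = g * e (σ.symm j) * g⁻¹ := rfl

/-- conjugation of a product -/
theorem conj_pi {E : ι → Subgroup T} (hcomm : Comm' E) (g : T) (σ : Equiv.Perm ι)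
    (h : ∀ i, ∀ x ∈ E i, g * x * g⁻¹ ∈ E (σ i)) (e : ∀ i, E i) :
    g * Subgroup.noncommPiCoprod hcomm e * g⁻¹ = Subgroup.noncommPiCoprod hcomm (tw E g σ h e) := by
  have key : (MulAut.conj g).toMonoidHom.comp (Subgroup.noncommPiCoprod hcomm) =
      (Subgroup.noncommPiCoprod hcomm).comp (tw E g σ h) := by
    refine MonoidHom.pi_ext fun i x => ?_
    rw [MonoidHom.comp_apply, MonoidHom.comp_apply, Subgroup.noncommPiCoprod_mulSingle]
    have h1 : tw E g σ h (Pi.mulSingle i x) = Pi.mulSingle (σ i) ⟨g * x * g⁻¹, h i x x.2⟩ := by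
      funext j
      apply Subtype.ext
      rw [tw_apply]
      by_cases hj : j = σ i
      · subst hj
        rw [Equiv.symm_apply_apply, Pi.mulSingle_eq_same, Pi.mulSingle_eq_same]
      · have hj' : σ.symm j ≠ i := fun h' => hj (by rw [← h', Equiv.apply_symm_apply])
        rw [Pi.mulSingle_eq_of_ne hj', Pi.mulSingle_eq_of_ne hj]
        simp
    rw [h1, Subgroup.noncommPiCoprod_mulSingle]
    rfl
  exact DFunLike.congr_fun key e

/-- `K` is the product of the central subgroup `Z` and of commuting subgroups `E i`, permuted by the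
elements of `T`; the product modulo `Z` is direct. -/
structure Cov (Z K : Subgroup T) (E : ι → Subgroup T) : Prop where
  zc : Z ≤ Subgroup.center T
  zK : Z ≤ K
  eK : ∀ i, E i ≤ K
  comm : Comm' E
  sup : K ≤ Z ⊔ ⨆ i, E i
  ker : ∀ e : ∀ i, E i, Subgroup.noncommPiCoprod comm e ∈ Z → ∀ i, (e i : T) ∈ Z
  perm : ∀ g : T, ∃ σ : Equiv.Perm ι, ∀ i, ∀ x ∈ E i, g * x * g⁻¹ ∈ E (σ i)

/-- **Gluing** of characters of the factors of a central product. -/
theorem glue [Finite T] {Z K : Subgroup T} [hK : K.Normal] {E : ι → Subgroup T} (h : Cov Z K E)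
    (ν : Z →* ℂˣ) (ψ : ∀ i, E i → ℂ) (hψ : ∀ i, IsIrrCharacter (E i) (ψ i))
    (hν : ∀ i (x : E i) (z : Z) (hz : (z : T) ∈ E i), ψ i (x * ⟨z, hz⟩) = ψ i x * ν z)
    (hinv : ∀ (g : T) (i j : ι) (hg : ∀ x ∈ E i, g * x * g⁻¹ ∈ E j) (x : E i),
      ψ j ⟨g * x * g⁻¹, hg x x.2⟩ = ψ i x) :
    ∃ Ψ : K → ℂ, IsIrrCharacter K Ψ ∧
      (∀ (z : Z) (k : K), Ψ (k * ⟨z, h.zK z.2⟩) = Ψ k * ν z) ∧
      charDegree Ψ = ∏ i, charDegree (ψ i) ∧
      (∀ k, ∃ (z : Z) (e : ∀ i, E i), Ψ k = ν z * ∏ i, ψ i (e i)) ∧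
      ∀ (g : T) (k : K), Ψ ⟨g * k * g⁻¹, hK.conj_mem k k.2 g⟩ = Ψ k := by
  classical
  let c := Subgroup.noncommPiCoprod h.comm
  have hcom : ∀ (z : Z) (e : ∀ i, E i), Commute (Z.subtype z) (c e) := fun z e =>
    (Subgroup.mem_center_iff.1 (h.zc z.2) (c e)).symm
  let μ : Z × (∀ i, E i) →* T := MonoidHom.noncommCoprod Z.subtype c hcom
  have hμ : ∀ x, μ x = x.1 * c x.2 := fun x => rfl
  have hcr : c.range = ⨆ i, E i := Subgroup.noncommPiCoprod_range
  have hcK : ∀ e, c e ∈ K := by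
    intro e
    have h1 : c e ∈ c.range := ⟨e, rfl⟩
    rw [hcr] at h1
    exact (iSup_le h.eK) h1
  have hμr : μ.range = Z ⊔ ⨆ i, E i := by
    rw [MonoidHom.noncommCoprod_range, hcr, Subgroup.range_subtype]
  let f : Z × (∀ i, E i) →* K := μ.codRestrict K (fun x => K.mul_mem (h.zK x.1.2) (hcK x.2))
  have hf : ∀ x, ((f x : K) : T) = x.1 * c x.2 := fun x => rfl
  have hfs : Function.Surjective f := by
    intro k
    have h1 : (k : T) ∈ μ.range := by
      rw [hμr]
      exact h.sup k.2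
    obtain ⟨x, hx⟩ := h1
    exact ⟨x, Subtype.ext hx⟩
  let χ : Z × (∀ i, E i) → ℂ := fun x => lf ν x.1 * ∏ i, ψ i (x.2 i)
  have hχ : IsIrrCharacter (Z × (∀ i, E i)) χ := S0188.isIrr_outer (isIrr_lf ν) (H793.PC.isIrr_pi hψ)
  have hχv : ∀ x, χ x = (ν x.1 : ℂ) * ∏ i, ψ i (x.2 i) := fun x => rfl
  obtain ⟨Ψ, hΨ, hΨf⟩ := exists_descent f hfs hχ (by
    rintro ⟨z, e⟩ hx
    have h1 : (z : T) * c e = 1 := by
      rw [← hf ⟨z, e⟩, MonoidHom.mem_ker.1 hx]
      rfl
    have h2 : c e = (z : T)⁻¹ := (inv_eq_of_mul_eq_one_right h1).symm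
    have h3 : c e ∈ Z := by
      rw [h2]
      exact Z.inv_mem z.2
    have he := h.ker e h3
    have h4 := nu_pi h.zc h.comm ν e he h3
    have h5 : ∀ i, ψ i (e i) = ψ i 1 * ν ⟨e i, he i⟩ := by
      intro i
      rw [← hν i 1 ⟨e i, he i⟩ (e i).2, one_mul]
    have h6 : ν z * ν ⟨c e, h3⟩ = 1 := by
      rw [← map_mul]
      have : z * ⟨c e, h3⟩ = 1 := Subtype.ext h1
      rw [this, map_one]
    have h7 : (ν z : ℂ) * (ν ⟨c e, h3⟩ : ℂ) = 1 := by
      rw [← Units.val_mul, h6, Units.val_one]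
    rw [hχv, hχv]
    simp only [h5, Finset.prod_mul_distrib, Prod.fst_one, Prod.snd_one, map_one, Units.val_one, one_mul,
      Pi.one_apply]
    rw [h4, Units.coe_prod] at h7
    linear_combination (∏ i, ψ i 1) * h7)
  refine ⟨Ψ, hΨ, ?_, ?_, ?_, ?_⟩
  · intro z k
    obtain ⟨⟨z', e⟩, rfl⟩ := hfs k
    have h1 : f (z', e) * ⟨z, h.zK z.2⟩ = f (z' * z, e) := by
      apply Subtype.ext
      rw [Subgroup.coe_mul, hf, hf]
      show (z' : T) * c e * z = (z' * z : T) * c e
      rw [mul_assoc, mul_assoc]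
      congr 1
      exact (hcom z e).eq.symm
    rw [h1, hΨf, hΨf, hχv, hχv, map_mul, Units.val_mul]
    ring
  · apply charDegree_of_eq
    have h1 : (1 : K) = f 1 := (map_one f).symm
    rw [h1, hΨf, hχv]
    simp only [Prod.fst_one, Prod.snd_one, map_one, Units.val_one, one_mul, Pi.one_apply, Nat.cast_prod]
    exact Finset.prod_congr rfl fun i _ => (coe_charDegree (hψ i)).symm
  · intro k
    obtain ⟨⟨z, e⟩, rfl⟩ := hfs k
    exact ⟨z, e, hΨf _⟩
  · intro g k
    obtain ⟨⟨z, e⟩, rfl⟩ := hfs k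
    obtain ⟨σ, hσ⟩ := h.perm g
    have h1 : (⟨g * (f (z, e) : K) * g⁻¹, hK.conj_mem _ (f (z, e)).2 g⟩ : K) = f (z, tw E g σ hσ e) := by
      apply Subtype.ext
      show g * ((z : T) * c e) * g⁻¹ = (z : T) * c (tw E g σ hσ e)
      have h2 : c (tw E g σ hσ e) = g * c e * g⁻¹ := (conj_pi h.comm g σ hσ e).symm
      rw [h2, ← mul_assoc g, Subgroup.mem_center_iff.1 (h.zc z.2) g]
      simp only [mul_assoc]
    rw [h1, hΨf, hΨf, hχv, hχv]
    congr 1
    rw [← Equiv.prod_comp σ]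
    refine Finset.prod_congr rfl fun i _ => ?_
    have h2 : tw E g σ hσ e (σ i) = ⟨g * e i * g⁻¹, hσ i _ (e i).2⟩ := by
      apply Subtype.ext
      rw [tw_apply, Equiv.symm_apply_apply]
    show ψ (σ i) (tw E g σ hσ e (σ i)) = ψ i (e i)
    rw [h2]
    exact hinv g i (σ i) (hσ i) (e i)

end

end Cfsg.Agent.H921.RatB
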