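import Cfsg.Agent.H921.RatB.LayerTab
import Cfsg.Agent.H712.GmnTab

/-!
# The layer task of TEAM B0-RAT (S4891) (helper921)

`layerTask`: task 4375, from `layer_of_tab` and the table `H712.GmnTab.tab`.
-/

set_option autoImplicit false

namespace Cfsg.Agent.H921.RatB

universe u

theorem layerTask {p : ℕ} [hp : Fact p.Prime] (hp2 : p ≠ 2) (hSL : H846.RatB.SLTask.{u}) :
    H846.RatB.LayerTask.{u} p :=
  layer_of_tab (H712.GmnTab.tab hp2) hSL

end Cfsg.Agent.H921.RatB
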